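import Cfsg.Agent.H424.Spr.Two
import Cfsg.Agent.H341.ThreeList_m3
import Cfsg.Agent.Prune
set_option linter.all false
prune_inst 0x7f00000000000000000000000000000000000000000000000000000000000000000000000000000000000000000000000000000000000000000000000000000000000000000000000000000000000000003fffffffffffffffffffffffffffbeffbdffffffff
open scoped Cfsg.Agent.FastGrp

/-!
# S3938 (3/2-generation): the reduction to the rows (helper862)

`Row g` : the simple groups with the name `g` satisfy `Spr`.  `s3938_of` : S3938 from the rows.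
`One`, `Two` : the two forms in which the rows are proved.
-/

set_option autoImplicit false

namespace Cfsg.Agent.H862.Spr

open Cfsg Cfsg.Agent.OrdDiv Cfsg.Agent.H436
open Cfsg.Agent.H424.Spr (Spr)

universe u

/-- the row of S3938 for the name `g` -/
def Row (g : Grp) : Prop := ∀ {T : Type} [Group T] [Finite T], IsSimpleGroup T → IsNamed g T → Spr T

/-- the rows of the classical groups -/
structure SprCl : Prop where
  psl : ∀ {n : ℕ} {F : Type} [Field F] [Fintype F], 2 ≤ n → (n = 2 → 4 ≤ Fintype.card F) →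
    Spr (Matrix.ProjectiveSpecialLinearGroup (Fin n) F)
  psp : ∀ {m : ℕ} {F : Type} [Field F] [Fintype F], 2 ≤ m → (m = 2 → 3 ≤ Fintype.card F) → Spr (PSp m F)
  psu : ∀ {n q : ℕ} {F : Type} [Field F] [Fintype F], Fintype.card F = q ^ 2 → 3 ≤ n → ¬ (n = 3 ∧ q = 2) →
    Spr (PSU n F q)
  oodd : ∀ {m : ℕ} {F : Type} [Field F] [Fintype F], 3 ≤ m → Odd (Fintype.card F) →
    Spr (POmega F (quadFormOdd m F))
  oplus : ∀ {m : ℕ} {F : Type} [Field F] [Fintype F], 4 ≤ m → Spr (POmega F (quadFormPlus m F))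
  ominus : ∀ {m : ℕ} {F : Type} [Field F] [Fintype F] {a b : F}, 4 ≤ m →
    (∀ z₁ z₂ : F, z₁ ^ 2 + a * z₁ * z₂ + b * z₂ ^ 2 = 0 → z₁ = 0 ∧ z₂ = 0) →
    Spr (POmega F (quadFormMinus (m - 1) F a b))

/-- the rows of the exceptional groups -/
structure SprExc : Prop where
  g2 : ∀ {q : ℕ}, Row (.g2 q)
  f4 : ∀ {q : ℕ}, Row (.f4 q)
  e6 : ∀ {q : ℕ}, Row (.e6 q)
  e7 : ∀ {q : ℕ}, Row (.e7 q)
  e8 : ∀ {q : ℕ}, Row (.e8 q)
  te6 : ∀ {q : ℕ}, Row (.te6 q)
  td4 : ∀ {q : ℕ}, Row (.td4 q)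
  sz : ∀ {q : ℕ}, Row (.sz q)
  ree : ∀ {q : ℕ}, Row (.ree q)
  tf4 : ∀ {q : ℕ}, Row (.tf4 q)
  tits : Row .tits

/-- the rows of the sporadic groups -/
structure SprSpor : Prop where
  m11 : ∀ {T : Type} [Group T] [Finite T], Spor.IsoM11 T → Spr T
  m12 : ∀ {T : Type} [Group T] [Finite T], Spor.IsoM12 T → Spr T
  m22 : ∀ {T : Type} [Group T] [Finite T], Spor.IsoM22 T → Spr T
  m23 : ∀ {T : Type} [Group T] [Finite T], Spor.IsoM23 T → Spr T
  m24 : ∀ {T : Type} [Group T] [Finite T], Spor.IsoM24 T → Spr T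
  j1 : ∀ {T : Type} [Group T] [Finite T], Spor.IsoJ1 T → Spr T
  j2 : ∀ {T : Type} [Group T] [Finite T], Spor.IsoJ2 T → Spr T
  j3 : ∀ {T : Type} [Group T] [Finite T], Spor.IsoJ3 T → Spr T
  j4 : ∀ {T : Type} [Group T] [Finite T], Spor.IsoJ4 T → Spr T
  co1 : ∀ {T : Type} [Group T] [Finite T], Spor.IsoCo1 T → Spr T
  co2 : ∀ {T : Type} [Group T] [Finite T], Spor.IsoCo2 T → Spr T
  co3 : ∀ {T : Type} [Group T] [Finite T], Spor.IsoCo3 T → Spr T
  mcl : ∀ {T : Type} [Group T] [Finite T], Spor.IsoMcL T → Spr T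
  hs : ∀ {T : Type} [Group T] [Finite T], Spor.IsoHS T → Spr T
  suz : ∀ {T : Type} [Group T] [Finite T], Spor.IsoSuz T → Spr T
  he : ∀ {T : Type} [Group T] [Finite T], Spor.IsoHe T → Spr T
  ru : ∀ {T : Type} [Group T] [Finite T], Spor.IsoRu T → Spr T
  on : ∀ {T : Type} [Group T] [Finite T], Spor.IsoON T → Spr T
  ly : ∀ {T : Type} [Group T] [Finite T], Spor.IsoLy T → Spr T
  fi22 : ∀ {T : Type} [Group T] [Finite T], Spor.IsoFi22 T → Spr T
  fi23 : ∀ {T : Type} [Group T] [Finite T], Spor.IsoFi23 T → Spr T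
  fi24 : ∀ {T : Type} [Group T] [Finite T], Spor.IsoFi24' T → Spr T
  hn : ∀ {T : Type} [Group T] [Finite T], Spor.IsoHN T → Spr T
  th : ∀ {T : Type} [Group T] [Finite T], Spor.IsoTh T → Spr T
  b : ∀ {T : Type} [Group T] [Finite T], Spor.IsoB T → Spr T
  m : ∀ {T : Type} [Group T] [Finite T], Spor.IsoM T → Spr T

/-- a named simple group satisfies `Spr` -/
theorem spr_of_named (alt : ∀ {n : ℕ}, 5 ≤ n → Spr ↥(alternatingGroup (Fin n))) (cl : SprCl) (hr : SprExc)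
    (hsp : SprSpor) {T : Type} [Group T] [Finite T] (hs : IsSimpleGroup T) {g : Grp} (h : IsNamed g T) : Spr T := by
  obtain ⟨hre, hcond, -, hord⟩ := id h
  cases g with
  | alt n =>
    obtain ⟨f⟩ := hre
    exact Spr.congr f.symm (alt hcond)
  | psl n q =>
    obtain ⟨F, i1, i2, rfl, ⟨f⟩⟩ := hre
    exact Spr.congr f.symm (cl.psl hcond.1 hcond.2.1)
  | psp m q =>
    obtain ⟨F, i1, i2, rfl, ⟨f⟩⟩ := hre
    exact Spr.congr f.symm (cl.psp hcond.1 hcond.2.1)
  | psu n q =>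
    obtain ⟨F, i1, i2, hF, ⟨f⟩⟩ := hre
    exact Spr.congr f.symm (cl.psu hF hcond.1 hcond.2.1)
  | oodd m q =>
    obtain ⟨F, i1, i2, rfl, ⟨f⟩⟩ := hre
    exact Spr.congr f.symm (cl.oodd hcond.1 hcond.2.1)
  | oplus m q =>
    obtain ⟨F, i1, i2, rfl, ⟨f⟩⟩ := hre
    exact Spr.congr f.symm (cl.oplus hcond.1)
  | ominus m q =>
    obtain ⟨F, i1, i2, a, b, rfl, hab, ⟨f⟩⟩ := hre
    exact Spr.congr f.symm (cl.ominus hcond.1 hab)
  | g2 q => exact hr.g2 hs h
  | f4 q => exact hr.f4 hs h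
  | e6 q => exact hr.e6 hs h
  | e7 q => exact hr.e7 hs h
  | e8 q => exact hr.e8 hs h
  | te6 q => exact hr.te6 hs h
  | td4 q => exact hr.td4 hs h
  | sz q => exact hr.sz hs h
  | ree q => exact hr.ree hs h
  | tf4 q => exact hr.tf4 hs h
  | tits => exact hr.tits hs h
  | m11 => exact hsp.m11 hre
  | m12 => exact hsp.m12 hre
  | m22 => exact hsp.m22 hre
  | m23 => exact hsp.m23 hre
  | m24 => exact hsp.m24 hre
  | j1 => exact hsp.j1 hre
  | j2 => exact hsp.j2 hre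
  | j3 => exact hsp.j3 hre
  | j4 => exact hsp.j4 hre
  | co1 => exact hsp.co1 hre
  | co2 => exact hsp.co2 hre
  | co3 => exact hsp.co3 hre
  | mcl => exact hsp.mcl hre
  | hs => exact hsp.hs hre
  | suz => exact hsp.suz hre
  | he => exact hsp.he hre
  | ru => exact hsp.ru hre
  | on => exact hsp.on hre
  | ly => exact hsp.ly hre
  | fi22 => exact hsp.fi22 hre
  | fi23 => exact hsp.fi23 hre
  | fi24 => exact hsp.fi24 hre
  | hn => exact hsp.hn hre
  | th => exact hsp.th hre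
  | b => exact hsp.b hre
  | m => exact hsp.m hre

/-- every finite non-abelian simple group satisfies `Spr`, from the rows -/
theorem spr_of_rows (tab : OrderTable.{0}) (hK : ∀ (X : Type) [Group X] [Finite X] [IsSimpleGroup X],
    Cfsg.IsKnownSimple' X) (alt : ∀ {n : ℕ}, 5 ≤ n → Spr ↥(alternatingGroup (Fin n))) (cl : SprCl) (hr : SprExc)
    (hsp : SprSpor) {L : Type u} [Group L] [Finite L] (hs : IsSimpleGroup L) (hna : ¬ ∀ a b : L, a * b = b * a) :
    Spr L := by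
  let e : Shrink.{0} L ≃* L := (Shrink.mulEquiv : Shrink.{0} L ≃* L)
  have hfin : Finite (Shrink.{0} L) := Finite.of_equiv L e.symm.toEquiv
  have hs' : IsSimpleGroup (Shrink.{0} L) := e.isSimpleGroup
  have hna' : ¬ ∀ a b : Shrink.{0} L, a * b = b * a := by
    intro hcomm
    apply hna
    intro a b
    apply e.symm.injective
    rw [map_mul, map_mul, hcomm]
  obtain ⟨g, hg⟩ := exists_named tab (hK (Shrink.{0} L)) hna'
  exact Spr.congr e (spr_of_named alt cl hr hsp hs' hg)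

/-- **S3938 from the rows.** -/
theorem s3938_of (tab : OrderTable.{0}) (hK : ∀ (X : Type) [Group X] [Finite X] [IsSimpleGroup X],
    Cfsg.IsKnownSimple' X) (alt : ∀ {n : ℕ}, 5 ≤ n → Spr ↥(alternatingGroup (Fin n))) (cl : SprCl) (hr : SprExc)
    (hsp : SprSpor) {G : Type u} [Group G] [Finite G] (L : Subgroup G) [L.Normal] (hs : IsSimpleGroup ↥L)
    (hna : ¬ IsMulCommutative ↥L) (hc : Subgroup.centralizer (L : Set G) = ⊥) (g : G) (hg : g ≠ 1) :
    ∃ x : G, L ≤ Subgroup.closure ({x, g} : Set G) :=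
  H424.Spr.of_spr L (spr_of_rows tab hK alt cl hr hsp hs (fun h => hna ⟨⟨h⟩⟩)) hc g hg

end Cfsg.Agent.H862.Spr
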