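import Cfsg.Agent.H862.Spr.Rows
import Cfsg.Agent.H59.Spr.LThreeFour_m3
import Cfsg.Agent.H842.Spr.PSp8_mg
import Cfsg.Agent.H458.Spr.PSp6Final_mg_m3
import Cfsg.Agent.H688.Sp4.OddAll_mg_m3
import Cfsg.Agent.H688.Sp4.All
import Cfsg.Agent.H824.Sp2.Dat
import Cfsg.Agent.Prune
set_option linter.all false
prune_inst 0x7f00000000000000000000000000000000000000000000000000000000000000000000000000000000000000000000000000000000000000000000000000000000000000000000000000000000000000003fffffffffffffffffffffffffffbeffbdffffffff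

/-!
# S3938: the classical rows `PSL`, `PSp`, `PSU`, `PΩ` odd (helper862)
-/

set_option autoImplicit false

namespace Cfsg.Agent.H862.Spr

open Cfsg Cfsg.Agent.OrdDiv
open Cfsg.Agent.H424.Spr (Spr)

/-- the row `PSp_{2m}(q)` -/
theorem row_psp (hP : H659.CovCore.S5948Stmt.{0}) {m : ℕ} {F : Type} [Field F] [Fintype F] (hm : 2 ≤ m)
    (h2 : m = 2 → 3 ≤ Fintype.card F) : Spr (PSp m F) := by
  rcases Nat.even_or_odd (Fintype.card F) with he | ho
  · by_cases h42 : m = 4 ∧ Fintype.card F = 2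
    · obtain ⟨rfl, hF⟩ := h42
      exact H824.Sp2.spr_psp_four hF
    by_cases h62 : m = 6 ∧ Fintype.card F = 2
    · obtain ⟨rfl, hF⟩ := h62
      exact H824.Sp2.spr_psp_six hF
    exact H427.Sg.spr_psp_even hP hm h2 (Nat.not_odd_iff_even.2 he) h42 h62
  rcases Nat.lt_or_ge m 5 with h5 | h5
  · interval_cases m
    · exact H688.Sp4.spr_psp4 (h2 rfl)
    · exact H458.Spr6.spr_psp3 ho
    · exact H842.Spr.spr_psp_four ho
  · exact H791.Spr.spr_psp10 hP h5 ho

/-- the row `PSU_n(q)` -/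
theorem row_psu (hP : H659.CovCore.S5948Stmt.{0}) (h42 : H981.Cov.S5842Stmt)
    (h03 : ∀ {q : ℕ} {F : Type} [Field F] [Fintype F], 3 ≤ q → Fintype.card F = q ^ 2 → H680.Cov.SU6.R5803 F q)
    {n q : ℕ} {F : Type} [Field F] [Fintype F] (hF : Fintype.card F = q ^ 2) (hn : 3 ≤ n)
    (h32 : ¬ (n = 3 ∧ q = 2)) : Spr (PSU n F q) := by
  have hq : 2 ≤ q := LieClassical.HermBasic.two_le hF
  rcases Nat.lt_or_ge n 10 with h10 | h10
  · interval_cases n
    · exact H947.Spr.spr_psu3 hF (by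
        by_contra hlt
        exact h32 ⟨rfl, by omega⟩)
    · exact H833.Spr4.spr_psu4 hF
    · exact H775.Spr.spr_psu5 hF
    · exact H62.Spr.spr_psu_six hF (fun h3 => h03 h3 hF)
    · exact H242.Spr.spr_psu7 hF
    · exact H242.Spr.spr_psu8 hF
    · exact H196.Spr.spr_psu_nine hF
  · exact H424.SprSU.spr_psu hP h42 hF h10

/-- the row `Ω_{2m+1}(q)` -/
theorem row_oodd (hK : ∀ (X : Type) [Group X] [Finite X] [IsSimpleGroup X], Cfsg.IsKnownSimple' X)
    (hP : H659.CovCore.S5948Stmt.{0}) {m : ℕ} {F : Type} [Field F] [Fintype F] (hm : 3 ≤ m)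
    (ho : Odd (Fintype.card F)) : Spr (POmega F (quadFormOdd m F)) := by
  rcases Nat.lt_or_ge m 5 with h5 | h5
  · interval_cases m
    · exact H36.Spr7.spr_oodd7 hK ho
    · exact H71.Spr.spr_o9 ho
  · exact H239.SprOodd.spr_oodd hP h5 ho

end Cfsg.Agent.H862.Spr
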